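import Groth.Agent.MagnetLib.Comap
import Groth.Agent.MagnetLib.Descend
import Mathlib.RingTheory.Flat.FaithfullyFlat.Algebra
import Mathlib.AlgebraicGeometry.Morphisms.Flat
import Mathlib.AlgebraicGeometry.Morphisms.Affine

/-!
# Monoid schemes: free maps of monoids give fpqc coverings
-/

set_option autoImplicit false
set_option linter.style.haveILetI false
universe u

open CategoryTheory CategoryTheory.Limits MonoidalCategory CartesianMonoidalCategory MonObj AlgebraicGeometry Opposite
open Magnet

noncomputable section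

namespace ComapGenLib

theorem faithfullyFlat_mapDomain_of_free {R : Type u} [CommRing R] {N P : Type} [CommMonoid N] [CommMonoid P]
    (φ : N →* P) {Q : Type} [Nonempty Q] (s : Q → P)
    (hs : Function.Bijective fun z : Σ _ : Q, N => φ z.2 * s z.1) :
    (MonoidAlgebra.mapDomainAlgHom R R φ).toRingHom.FaithfullyFlat := by
  classical
  let θ := (MonoidAlgebra.mapDomainAlgHom R R φ).toRingHom
  letI := θ.toAlgebra
  haveI : IsScalarTower R (MonoidAlgebra R N) (MonoidAlgebra R P) :=
    IsScalarTower.of_algebraMap_eq fun r => ((MonoidAlgebra.mapDomainAlgHom R R φ).commutes r).symm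
  let e : (Σ _ : Q, N) ≃ P := Equiv.ofBijective _ hs
  let L : (Q →₀ MonoidAlgebra R N) →ₗ[MonoidAlgebra R N] MonoidAlgebra R P :=
    Finsupp.linearCombination _ fun q => MonoidAlgebra.single (s q) (1 : R)
  let b := Finsupp.basis fun _ : Q => MonoidAlgebra.basis N R
  have hL : L.restrictScalars R = (b.equiv (MonoidAlgebra.basis P R) e).toLinearMap := by
    refine b.ext fun z => ?_
    obtain ⟨q, n⟩ := z
    rw [LinearEquiv.coe_coe, Module.Basis.equiv_apply]
    simp [b, L, e, Finsupp.coe_basis, RingHom.smul_toAlgebra, Algebra.smul_def, RingHom.algebraMap_toAlgebra, θ,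
      MonoidAlgebra.single_mul_single]
  have hLb : Function.Bijective L := by
    have : (L : (Q →₀ MonoidAlgebra R N) → MonoidAlgebra R P) = b.equiv (MonoidAlgebra.basis P R) e :=
      congrArg DFunLike.coe hL
    rw [this]
    exact (b.equiv (MonoidAlgebra.basis P R) e).bijective
  haveI : Module.Free (MonoidAlgebra R N) (MonoidAlgebra R P) :=
    Module.Free.of_equiv (LinearEquiv.ofBijective L hLb)
  rcases subsingleton_or_nontrivial R with hR | hR
  · haveI : Subsingleton (MonoidAlgebra R N) := Module.subsingleton R _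
    haveI : Module.FaithfullyFlat (MonoidAlgebra R N) (MonoidAlgebra R P) :=
      ⟨fun m hm => absurd (Subsingleton.elim m ⊤) hm.ne_top⟩
    exact this
  · haveI : Nontrivial (MonoidAlgebra R P) := inferInstance
    exact inferInstanceAs (Module.FaithfullyFlat (MonoidAlgebra R N) (MonoidAlgebra R P))

variable {S : Scheme.{u}} {N P : Type} [AddCommMonoid N] [AddCommMonoid P]

theorem isPullback_map (f : N →+ P) :
    IsPullback (pullback.fst (AMon (ULift.{u} ℤ) P).hom (Limits.IsTerminal.from specULiftZIsTerminal S))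
      (AMonS.map S f).left (AMon.map (ULift.{u} ℤ) f).left
      (pullback.fst (AMon (ULift.{u} ℤ) N).hom (Limits.IsTerminal.from specULiftZIsTerminal S)) := by
  refine IsPullback.of_bot ?_ ?_ (IsPullback.of_hasPullback (AMon (ULift.{u} ℤ) N).hom
    (Limits.IsTerminal.from specULiftZIsTerminal S))
  · rw [Over.w]
    change IsPullback _ ((AMonS.map S f).left ≫ (AMonS S N).hom) _ _
    rw [Over.w]
    exact IsPullback.of_hasPullback _ _
  · simp [AMonS.map]
    exact (pullback.lift_fst _ _ _).symm

/-- A free map of monoids gives an fpqc covering of monoid schemes. -/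
theorem fpqc_map (f : N →+ P) {Q : Type} [Nonempty Q] (s : Q → P)
    (hs : Function.Bijective fun z : Σ _ : Q, N => f z.2 + s z.1) : DescLib.Fpqc (AMonS.map S f).left := by
  have hs' : Function.Bijective fun z : Σ _ : Q, Multiplicative N =>
      (AddMonoidHom.toMultiplicative f) z.2 * Multiplicative.ofAdd (s z.1) := hs
  let θ := (MonoidAlgebra.mapDomainAlgHom (ULift.{u} ℤ) (ULift.{u} ℤ) (AddMonoidHom.toMultiplicative f)).toRingHom
  have hff : θ.FaithfullyFlat := faithfullyFlat_mapDomain_of_free _ (fun q => Multiplicative.ofAdd (s q)) hs'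
  obtain ⟨h1, h2⟩ := RingHom.FaithfullyFlat.iff_flat_and_comap_surjective.1 hff
  let g := (AMon.map (ULift.{u} ℤ) f).left
  have hg : g = Spec.map (CommRingCat.ofHom θ) := by
    rw [show g = _ from AMon.map_left _ f]
    rfl
  haveI gflat : Flat g := by rw [hg]; exact (HasRingHomProperty.Spec_iff (P := @Flat)).2 h1
  haveI gsurj : Surjective g := by rw [hg]; exact ⟨h2⟩
  haveI : IsAffine (AMon (ULift.{u} ℤ) N).left := inferInstanceAs (IsAffine (Spec _))
  haveI : IsAffine (AMon (ULift.{u} ℤ) P).left := inferInstanceAs (IsAffine (Spec _))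
  haveI : IsAffineHom g := isAffineHom_of_isAffine g
  exact DescLib.Fpqc.of_isPullback (p := g) (isPullback_map f).flip

theorem fpqc_whiskerRight {A B : Over S} (q : A ⟶ B) (T : Over S) [DescLib.Fpqc q.left] :
    DescLib.Fpqc (q ▷ T).left := by
  refine DescLib.Fpqc.of_isPullback (p := q.left) (g := (fst B T).left) (p₂ := (fst A T).left) ?_
  refine IsPullback.of_right ?_ (by rw [← Over.comp_left, ← Over.comp_left, whiskerRight_fst])
    (IsPullback.of_hasPullback B.hom T.hom).flip
  have h' : (q ▷ T).left ≫ (snd B T).left = (snd A T).left := by rw [← Over.comp_left, whiskerRight_snd]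
  change IsPullback ((q ▷ T).left ≫ (snd B T).left) (fst A T).left T.hom (q.left ≫ B.hom)
  rw [h', Over.w q]
  exact (IsPullback.of_hasPullback A.hom T.hom).flip

theorem epi_of_fpqc {A B : Over S} (q : A ⟶ B) [DescLib.Fpqc q.left] : Epi q :=
  (Over.forget S).epi_of_epi_map (show Epi q.left from inferInstance)

/-- Morphisms invariant on the fibre product descend along an fpqc morphism. -/
theorem exists_desc {A B X : Over S} (q : A ⟶ B) [DescLib.Fpqc q.left] (φ' : A ⟶ X)
    (h : ∀ (R : Over S) (w₁ w₂ : R ⟶ A), w₁ ≫ q = w₂ ≫ q → w₁ ≫ φ' = w₂ ≫ φ') :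
    ∃ φ : B ⟶ X, q ≫ φ = φ' := by
  have hker : ∀ {R : Scheme.{u}} (z₁ z₂ : R ⟶ A.left), z₁ ≫ q.left = z₂ ≫ q.left → z₁ ≫ φ'.left = z₂ ≫ φ'.left := by
    intro R z₁ z₂ hz
    let R' : Over S := Over.mk (z₁ ≫ A.hom)
    have hw₂ : z₂ ≫ A.hom = z₁ ≫ A.hom := by
      rw [← Over.w q, ← Category.assoc, ← hz, Category.assoc]
    exact congrArg CommaMorphism.left (h R' (Over.homMk z₁ rfl) (Over.homMk z₂ hw₂) (Over.OverMorphism.ext hz))
  let φl : B.left ⟶ X.left := EffectiveEpi.desc q.left φ'.left fun {R} z₁ z₂ hz => hker z₁ z₂ hz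
  have hl : q.left ≫ φl = φ'.left := EffectiveEpi.fac _ _ _
  refine ⟨Over.homMk φl ?_, Over.OverMorphism.ext hl⟩
  rw [← cancel_epi q.left, ← Category.assoc, hl, Over.w φ', Over.w q]

end ComapGenLib

end
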