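import Groth.Agent.ComapGenLib.Cover

/-!
# Change of group for attractors of arbitrary schemes
-/

set_option autoImplicit false
set_option linter.style.haveILetI false
universe u

open CategoryTheory CategoryTheory.Limits MonoidalCategory CartesianMonoidalCategory MonObj AlgebraicGeometry Opposite
open Magnet
open AttrPtLib (chi chi_ext chi_map chi_comp chi_zero chi_mul chi_add exists_chi)

noncomputable section

namespace ComapGenLib

variable {S : Scheme.{u}} {M Z : Type} [AddCommGroup M] [AddCommGroup Z] (f : M →+ Z) (Y : AddSubmonoid Z)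

/-- The map of preimage to image. -/
def gY : ↥(Y.comap f) →+ ↥Y := (f.comp (Y.comap f).subtype).codRestrict Y (fun x => x.2)

/-- Translating the monoid scheme of the image by the group gives the monoid scheme of the preimage. -/
def cov : AMonS S M ⊗ AMonS S ↥Y ⟶ AMonS S ↥(Y.comap f) :=
  (fst _ _ ≫ AMonS.map S (Y.comap f).subtype) * (snd _ _ ≫ AMonS.map S (gY f Y))

theorem lift_cov {T : Over S} (g : T ⟶ AMonS S M) (y : T ⟶ AMonS S ↥Y) :
    lift g y ≫ cov f Y = (g ≫ AMonS.map S (Y.comap f).subtype) * (y ≫ AMonS.map S (gY f Y)) := by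
  simp [cov, MonObj.comp_mul]

theorem chi_lift_cov {T : Over S} (g : T ⟶ AMonS S M) (y : T ⟶ AMonS S ↥Y) (n : ↥(Y.comap f)) :
    chi (lift g y ≫ cov f Y) n = chi g n.1 * chi y (gY f Y n) := by
  rw [lift_cov, chi_mul, chi_map, chi_map]
  rfl

theorem fpqc_cov (hY : Y ≤ AddMonoidHom.mrange f) : DescLib.Fpqc (cov (S := S) f Y).left := by
  let j : ↥(Y.comap f) →+ M × ↥Y := (Y.comap f).subtype.prod (gY f Y)
  let sec : M ⧸ f.ker → M := fun q => q.out
  have hsec : ∀ q : M ⧸ f.ker, (QuotientAddGroup.mk (sec q) : M ⧸ f.ker) = q := fun q => q.out_eq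
  have hbij : Function.Bijective fun z : Σ _ : M ⧸ f.ker, ↥(Y.comap f) =>
      j z.2 + ((sec z.1, 0) : M × ↥Y) := by
    constructor
    · rintro ⟨q, n⟩ ⟨q', n'⟩ h
      have h1 : n.1 + sec q = n'.1 + sec q' := congrArg Prod.fst h
      have h2 : f n.1 = f n'.1 := by
        have := congrArg (fun w : M × ↥Y => (w.2 : Z)) h
        simpa [j, gY] using this
      have hq : q = q' := by
        rw [← hsec q, ← hsec q']
        refine QuotientAddGroup.eq.mpr ?_
        change f (-sec q + sec q') = 0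
        rw [show -sec q + sec q' = n.1 - n'.1 by
          rw [eq_sub_iff_add_eq, show -sec q + sec q' + n'.1 = n'.1 + sec q' - sec q by abel, ← h1]
          abel]
        rw [map_sub, h2, sub_self]
      subst hq
      obtain rfl : n = n' := Subtype.ext (add_right_cancel h1)
      rfl
    · rintro ⟨m, y⟩
      obtain ⟨n₀, hn₀⟩ := AddMonoidHom.mem_mrange.mp (hY y.2)
      let q : M ⧸ f.ker := QuotientAddGroup.mk (m - n₀)
      have hk : f (-(m - n₀) + sec q) = 0 := QuotientAddGroup.eq.mp (hsec q).symm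
      rw [map_add, map_neg, map_sub, hn₀] at hk
      have hf : f (m - sec q) = (y : Z) := by
        rw [map_sub, sub_eq_iff_eq_add]
        have := congrArg (fun w => f m - (y : Z) + w) hk
        simp only [add_zero, ← add_assoc, add_neg_cancel, zero_add] at this
        rw [this]; abel
      refine ⟨⟨q, ⟨m - sec q, show f (m - sec q) ∈ Y from hf ▸ y.2⟩⟩, Prod.ext ?_ (Subtype.ext ?_)⟩
      · simp [j]
      · simp [j, gY, ← hf]
  haveI := fpqc_map (S := S) j (fun q => ((sec q, 0) : M × ↥Y)) hbij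
  obtain ⟨e, he⟩ : ∃ e : AMonS S M ⊗ AMonS S ↥Y ≅ AMonS S (M × ↥Y), e.hom ≫ AMonS.map S j = cov f Y := by
    obtain ⟨e₁, he₁⟩ := exists_chi (S := S) (M := M × ↥Y) (AMonS S M ⊗ AMonS S ↥Y)
      { toFun := fun w => chi (fst (AMonS S M) (AMonS S ↥Y)) w.toAdd.1 *
          chi (snd (AMonS S M) (AMonS S ↥Y)) w.toAdd.2
        map_one' := by rw [toAdd_one, Prod.fst_zero, Prod.snd_zero, chi_zero, chi_zero, _root_.one_mul]
        map_mul' := fun v w => by
          rw [toAdd_mul, Prod.fst_add, Prod.snd_add, chi_add, chi_add]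
          exact mul_mul_mul_comm _ _ _ _ }
    let e₂ : AMonS S (M × ↥Y) ⟶ AMonS S M ⊗ AMonS S ↥Y :=
      lift (AMonS.map S (AddMonoidHom.inl M ↥Y)) (AMonS.map S (AddMonoidHom.inr M ↥Y))
    refine ⟨⟨e₁, e₂, ?_, ?_⟩, ?_⟩
    · apply CartesianMonoidalCategory.hom_ext
      · rw [Category.assoc, lift_fst, Category.id_comp]
        refine chi_ext fun m => ?_
        rw [chi_map, he₁]
        simp [chi_zero]
      · rw [Category.assoc, lift_snd, Category.id_comp]
        refine chi_ext fun y => ?_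
        rw [chi_map, he₁]
        simp [chi_zero]
    · refine chi_ext fun w => ?_
      rw [chi_comp, he₁]
      simp only [MonoidHom.coe_mk, OneHom.coe_mk, toAdd_ofAdd, map_mul]
      rw [← chi_comp, ← chi_comp, lift_fst, lift_snd, ← Category.id_comp (AMonS.map S (AddMonoidHom.inl M ↥Y)),
        ← Category.id_comp (AMonS.map S (AddMonoidHom.inr M ↥Y)), chi_map, chi_map, ← chi_add]
      simp
    · refine chi_ext fun n => ?_
      rw [chi_map, he₁]
      have hc : cov (S := S) f Y = lift (fst _ _) (snd _ _) ≫ cov f Y := by rw [lift_fst_snd, Category.id_comp]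
      rw [hc, chi_lift_cov]
      simp [j]
  haveI : IsIso e.hom.left := inferInstanceAs (IsIso ((Over.forget S).map e.hom))
  refine DescLib.Fpqc.of_isPullback (p := (AMonS.map S j).left) (g := 𝟙 _) (p₁ := (cov f Y).left)
    (p₂ := e.hom.left) ?_
  exact (IsPullback.of_horiz_isIso ⟨by rw [Category.comp_id, ← he, Over.comp_left]⟩).flip

variable {X : Over S} (a : MonAct (AMonS S M) X)

theorem isEquivariant_of_cov (hY : Y ≤ AddMonoidHom.mrange f) (T : Over S)
    (φ : AMonS S ↥(Y.comap f) ⊗ T ⟶ X) (ψ : AMonS S ↥Y ⊗ T ⟶ X)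
    (hφp : ∀ (R : Over S) (g : R ⟶ AMonS S M) (y : R ⟶ AMonS S ↥Y) (t : R ⟶ T),
      lift (lift g y ≫ cov f Y) t ≫ φ = lift g (lift y t ≫ ψ) ≫ a.act) :
    MonAct.IsEquivariant ((subAct S M (Y.comap f)).prod (MonAct.trivial _ T)) a φ := by
  haveI := fpqc_cov (S := S) f Y hY
  haveI := fpqc_whiskerRight (cov (S := S) f Y) T
  haveI := MagnetLib.fpqc_whiskerLeft (AMonS S M) (cov (S := S) f Y ▷ T)
  haveI := epi_of_fpqc (AMonS S M ◁ (cov f Y ▷ T))
  have key : ∀ (R : Over S) (h g : R ⟶ AMonS S M) (y : R ⟶ AMonS S ↥Y) (t : R ⟶ T),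
      lift (lift h (lift g y ≫ cov f Y) ≫ (subAct S M (Y.comap f)).act) t ≫ φ =
        lift h (lift (lift g y ≫ cov f Y) t ≫ φ) ≫ a.act := by
    intro R h g y t
    have e : lift h (lift g y ≫ cov f Y) ≫ (subAct S M (Y.comap f)).act = lift (h * g) y ≫ cov f Y := by
      rw [EqLiftLib.lift_subAct, lift_cov, lift_cov, MonObj.mul_comp, _root_.mul_assoc]
    rw [e, hφp, hφp, a.lift_mul_act]
  refine (cancel_epi (AMonS S M ◁ (cov f Y ▷ T))).mp ?_
  apply hom_ext_lift₂
  intro R h w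
  obtain ⟨g, y, t, rfl⟩ : ∃ g y t, w = lift (lift g y) t :=
    ⟨(w ≫ fst _ _) ≫ fst _ _, (w ≫ fst _ _) ≫ snd _ _, w ≫ snd _ _,
      by rw [lift_comp_fst_snd (w ≫ fst _ _), lift_comp_fst_snd]⟩
  rw [lift_whiskerLeft_assoc, lift_whiskerRight, MonAct.lift_prod_act_assoc, MonAct.lift_trivial_act, key,
    lift_whiskerLeft_assoc, lift_whiskerRight, lift_whiskerLeft_assoc]

set_option maxHeartbeats 1000000 in
theorem exists_preimage (hY : Y ≤ AddMonoidHom.mrange f) (T : Over S)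
    (ψ : AMonS S ↥Y ⊗ T ⟶ X)
    (hψ : MonAct.IsEquivariant ((subAct S Z Y).prod (MonAct.trivial _ T)) (a.restrict (AMonS.map S f)) ψ) :
    ∃ φ : AMonS S ↥(Y.comap f) ⊗ T ⟶ X,
      MonAct.IsEquivariant ((subAct S M (Y.comap f)).prod (MonAct.trivial _ T)) a φ ∧
      (AMonS.map S (gY f Y) ▷ T) ≫ φ = ψ := by
  rw [MonAct.mem_eqvHom_iff] at hψ
  haveI := fpqc_cov (S := S) f Y hY
  haveI := fpqc_whiskerRight (cov (S := S) f Y) T
  obtain ⟨φ', hφ'⟩ : ∃ φ' : (AMonS S M ⊗ AMonS S ↥Y) ⊗ T ⟶ X,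
      ∀ (R : Over S) (g : R ⟶ AMonS S M) (y : R ⟶ AMonS S ↥Y) (t : R ⟶ T),
        lift (lift g y) t ≫ φ' = lift g (lift y t ≫ ψ) ≫ a.act :=
    ⟨(α_ _ _ _).hom ≫ (AMonS S M ◁ ψ) ≫ a.act, fun R g y t => by
      simp only [lift_lift_associator_hom_assoc, lift_whiskerLeft_assoc]⟩
  have hinv : ∀ (R : Over S) (w₁ w₂ : R ⟶ (AMonS S M ⊗ AMonS S ↥Y) ⊗ T),
      w₁ ≫ (cov f Y ▷ T) = w₂ ≫ (cov f Y ▷ T) → w₁ ≫ φ' = w₂ ≫ φ' := by
    intro R w₁ w₂ hw
    obtain ⟨g, y, t, rfl⟩ : ∃ g y t, w₁ = lift (lift g y) t :=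
      ⟨(w₁ ≫ fst _ _) ≫ fst _ _, (w₁ ≫ fst _ _) ≫ snd _ _, w₁ ≫ snd _ _, by rw [lift_comp_fst_snd (w₁ ≫ fst _ _), lift_comp_fst_snd]⟩
    obtain ⟨g', y', t', rfl⟩ : ∃ g' y' t', w₂ = lift (lift g' y') t' :=
      ⟨(w₂ ≫ fst _ _) ≫ fst _ _, (w₂ ≫ fst _ _) ≫ snd _ _, w₂ ≫ snd _ _, by rw [lift_comp_fst_snd (w₂ ≫ fst _ _), lift_comp_fst_snd]⟩
    rw [lift_whiskerRight, lift_whiskerRight] at hw
    have ht : t = t' := by simpa using congrArg (· ≫ snd _ _) hw
    subst ht
    have hn : ∀ n : ↥(Y.comap f), chi g n.1 * chi y (gY f Y n) = chi g' n.1 * chi y' (gY f Y n) := fun n => by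
      rw [← chi_lift_cov, ← chi_lift_cov]
      have := congrArg (· ≫ fst _ _) hw
      simp only [lift_fst] at this
      rw [this]
    let d : M → Γ(R.left, ⊤) := fun m => chi g m * chi g' (-m)
    have hd_add : ∀ m m', d (m + m') = d m * d m' := fun m m' => by
      simp only [d, neg_add, chi_add]; ring
    have hd_ker : ∀ k ∈ f.ker, d k = 1 := by
      intro k hk
      have hkN : k ∈ Y.comap f := show f k ∈ Y from (AddMonoidHom.mem_ker.mp hk).symm ▸ Y.zero_mem
      have h0 : gY f Y ⟨k, hkN⟩ = 0 := Subtype.ext (AddMonoidHom.mem_ker.mp hk)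
      have := hn ⟨k, hkN⟩
      rw [h0, chi_zero, chi_zero, _root_.mul_one, _root_.mul_one] at this
      simp only [d, this, ← chi_add, add_neg_cancel, chi_zero]
    have hd_congr : ∀ m m', f m = f m' → d m = d m' := by
      intro m m' h
      have hm : m = (m - m') + m' := by abel
      rw [hm, hd_add, hd_ker _ (AddMonoidHom.mem_ker.mpr (by rw [map_sub, h, sub_self])), _root_.one_mul]
    let pre : ↥f.range → M := fun z => z.2.choose
    have hpre : ∀ z : ↥f.range, f (pre z) = z.1 := fun z => z.2.choose_spec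
    obtain ⟨hh, hhc⟩ := exists_chi (S := S) (M := ↥f.range) R
      { toFun := fun z => d (pre z.toAdd)
        map_one' := hd_ker _ (AddMonoidHom.mem_ker.mpr (hpre 0))
        map_mul' := fun z z' => by
          rw [← hd_add]
          refine hd_congr _ _ ?_
          rw [map_add, hpre, hpre, hpre]
          rfl }
    let inc : ↥f.range →+ Z := f.range.subtype
    haveI : DescLib.Fpqc (AMonS.map S inc).left := by
      refine fpqc_map inc (fun q : Z ⧸ f.range => q.out) ⟨?_, ?_⟩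
      · rintro ⟨q, n⟩ ⟨q', n'⟩ h
        have hq : q = q' := by
          rw [← q.out_eq, ← q'.out_eq]
          refine QuotientAddGroup.eq.mpr ?_
          have : -q.out + q'.out = n.1 - n'.1 := by
            have h' : n.1 + q.out = n'.1 + q'.out := h
            rw [eq_sub_iff_add_eq, show -q.out + q'.out + n'.1 = n'.1 + q'.out - q.out by abel, ← h']
            abel
          rw [this]
          exact sub_mem n.2 n'.2
        subst hq
        obtain rfl : n = n' := Subtype.ext (add_right_cancel h)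
        rfl
      · intro z
        have hz := QuotientAddGroup.eq.mp (Quotient.out_eq (QuotientAddGroup.mk z : Z ⧸ f.range))
        refine ⟨⟨QuotientAddGroup.mk z, ⟨z - Quotient.out (QuotientAddGroup.mk z : Z ⧸ f.range), ?_⟩⟩,
          sub_add_cancel z _⟩
        rwa [sub_eq_neg_add]
    let R' : Over S := Over.mk (pullback.fst hh.left (AMonS.map S inc).left ≫ R.hom)
    let p : R' ⟶ R := Over.homMk (pullback.fst hh.left (AMonS.map S inc).left) rfl
    let z : R' ⟶ AMonS S Z := Over.homMk (pullback.snd hh.left (AMonS.map S inc).left) (by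
      change pullback.snd _ _ ≫ _ = pullback.fst _ _ ≫ R.hom
      rw [← Over.w (AMonS.map S inc), ← Over.w hh, ← Category.assoc, ← pullback.condition, Category.assoc])
    haveI : DescLib.Fpqc p.left := inferInstanceAs (DescLib.Fpqc (pullback.fst hh.left (AMonS.map S inc).left))
    haveI := epi_of_fpqc p
    have hz : z ≫ AMonS.map S inc = p ≫ hh := Over.OverMorphism.ext pullback.condition.symm
    have hzc : ∀ m, chi z (f m) = p.left.appTop (d m) := by
      intro m
      have := congrArg (fun w => chi w (⟨f m, ⟨m, rfl⟩⟩ : ↥f.range)) hz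
      rw [chi_map, chi_comp, hhc] at this
      refine this.trans (congrArg _ (hd_congr _ _ ?_))
      exact hpre ⟨f m, ⟨m, rfl⟩⟩
    rw [← cancel_epi p, comp_lift_assoc, comp_lift, comp_lift_assoc, comp_lift, hφ', hφ']
    have hg : p ≫ g = (p ≫ g') * (z ≫ AMonS.map S f) := chi_ext fun m => by
      rw [chi_mul, chi_comp, chi_comp, chi_map, hzc, ← map_mul]
      refine congrArg _ ?_
      simp only [d]
      rw [_root_.mul_left_comm, ← chi_add, add_neg_cancel, chi_zero, _root_.mul_one]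
    have hy : p ≫ y' = (z ≫ AMonS.map S Y.subtype) * (p ≫ y) := chi_ext fun w => by
      obtain ⟨m, hm⟩ := AddMonoidHom.mem_mrange.mp (hY w.2)
      have hmN : m ∈ Y.comap f := show f m ∈ Y from hm ▸ w.2
      have hwm : w = gY f Y ⟨m, hmN⟩ := Subtype.ext hm.symm
      rw [chi_mul, chi_map, chi_comp, chi_comp, show Y.subtype w = f m from hm.symm, hzc, ← map_mul]
      refine congrArg _ ?_
      have h := hn ⟨m, hmN⟩
      rw [← hwm] at h
      simp only [d]
      rw [_root_.mul_comm (chi g m) (chi g' (-m)), _root_.mul_assoc, h, ← _root_.mul_assoc, ← chi_add, neg_add_cancel, chi_zero,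
        _root_.one_mul]
    rw [hg, hy, a.lift_mul_act, ← MonAct.lift_restrict_act (AMonS.map S f) a, ← hψ, EqLiftLib.lift_subAct]
  obtain ⟨φ, hφ⟩ := exists_desc (cov f Y ▷ T) φ' hinv
  have hφp : ∀ (R : Over S) (g : R ⟶ AMonS S M) (y : R ⟶ AMonS S ↥Y) (t : R ⟶ T),
      lift (lift g y ≫ cov f Y) t ≫ φ = lift g (lift y t ≫ ψ) ≫ a.act := fun R g y t => by
    rw [← lift_whiskerRight_assoc, hφ, hφ']
  refine ⟨φ, ?_, ?_⟩
  · exact isEquivariant_of_cov f Y a hY T φ ψ hφp
  · apply hom_ext_lift₂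
    intro R y t
    rw [lift_whiskerRight_assoc]
    have h1 : y ≫ AMonS.map S (gY f Y) = lift (1 : R ⟶ AMonS S M) y ≫ cov f Y := by
      rw [lift_cov, MonObj.one_comp, _root_.one_mul]
    rw [h1, hφp, a.lift_one_act]

theorem injective_comp (hY : Y ≤ AddMonoidHom.mrange f) (T : Over S) {φ φ₂ : AMonS S ↥(Y.comap f) ⊗ T ⟶ X}
    (hφ : MonAct.IsEquivariant ((subAct S M (Y.comap f)).prod (MonAct.trivial _ T)) a φ)
    (hφ₂ : MonAct.IsEquivariant ((subAct S M (Y.comap f)).prod (MonAct.trivial _ T)) a φ₂)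
    (h : (AMonS.map S (gY f Y) ▷ T) ≫ φ = (AMonS.map S (gY f Y) ▷ T) ≫ φ₂) : φ = φ₂ := by
  rw [MonAct.mem_eqvHom_iff] at hφ hφ₂
  haveI := fpqc_cov (S := S) f Y hY
  haveI := fpqc_whiskerRight (cov (S := S) f Y) T
  haveI := epi_of_fpqc (cov f Y ▷ T)
  refine (cancel_epi (cov f Y ▷ T)).mp ?_
  apply hom_ext_lift₂
  intro R w t
  rw [← lift_comp_fst_snd w]
  simp only [lift_whiskerRight_assoc, lift_cov]
  have e : ∀ φ₀ : AMonS S ↥(Y.comap f) ⊗ T ⟶ X,
      lift ((w ≫ snd _ _) ≫ AMonS.map S (gY f Y)) t ≫ φ₀ =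
        lift (w ≫ snd _ _) t ≫ (AMonS.map S (gY f Y) ▷ T) ≫ φ₀ := fun φ₀ => by
    rw [lift_whiskerRight_assoc]
  have h1 := hφ R (w ≫ fst _ _) ((w ≫ snd _ _) ≫ AMonS.map S (gY f Y)) t
  have h2 := hφ₂ R (w ≫ fst _ _) ((w ≫ snd _ _) ≫ AMonS.map S (gY f Y)) t
  rw [EqLiftLib.lift_subAct] at h1 h2
  rw [h1, h2, e, e, h]

end ComapGenLib

end
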